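import Groth.Agent.SmoothUnit27.Algebra
import Groth.Agent.FlatMor.SmoothCartierScheme
import Groth.Agent.EtStruct.BaseChangeDescentScheme
import Groth.Agent.Omega.DiagUniv
import Groth.Agent.Omega.LocalStructure
import Groth.Agent.Props.QProj
import Groth.Agent.KFlat.LocFree

/-!
# Smoothness along a section and the differentials
-/

set_option autoImplicit false
set_option backward.isDefEq.respectTransparency.types false

universe u

open CategoryTheory CategoryTheory.Limits AlgebraicGeometry TopologicalSpace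

namespace Groth.Agent.SmoothUnit27

variable {X S : Scheme.{u}} (f : X ⟶ S) (e : S ⟶ X)

/-- The pullback along `e` of the differentials is finite locally free if `f` is smooth near `e`. -/
theorem isFinLocFree_of_smooth [QuasiSeparated f] (W : X.Opens) (hW : Smooth (W.ι ≫ f))
    (heW : ∀ p, e p ∈ W) :
    FlatMod.IsFinLocFree ((Scheme.Modules.pullback e).obj (Omega.sheaf f)) := fun p => by
  obtain ⟨_, ⟨U, hU, rfl⟩, hxU, -⟩ :=
    S.isBasis_affineOpens.exists_subset_of_mem_open (Set.mem_univ (f (e p))) isOpen_univ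
  obtain ⟨_, ⟨V, hV, rfl⟩, hxV, hVle⟩ := X.isBasis_affineOpens.exists_subset_of_mem_open
    (show e p ∈ ((W ⊓ f ⁻¹ᵁ U : X.Opens) : Set X) from ⟨heW p, hxU⟩) (W ⊓ f ⁻¹ᵁ U).isOpen
  have hle : V ≤ f ⁻¹ᵁ U := fun z hz => (hVle hz).2
  have hsm := Groth.Agent.FlatMor.SmoothCartier.smooth_appLE f hW hV (fun z hz => (hVle hz).1) hU hle
  obtain ⟨r, e', hxr, -, -, -, ⟨i⟩⟩ := Omega.LocalStructure.exists_free_of_chart
    (Omega.DiagUniv.isUniversal_dOmega f) hU hV hle hxV (by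
      letI := (f.appLE U V hle).hom.toAlgebra
      haveI : Algebra.Smooth Γ(S, U) Γ(X, V) := RingHom.smooth_algebraMap.1 hsm
      exact ⟨inferInstance, inferInstance⟩)
  exact ⟨e ⁻¹ᵁ X.basicOpen r, _, hxr, ⟨KFlat.LocFree.restrictPullIso e (X.basicOpen r) _ le_rfl _ ≪≫
    (Scheme.Modules.pullback _).mapIso i ≪≫ KFlat.LocFree.pullFreeIso _ _⟩⟩

theorem exists_smooth_nhd (he : e ≫ f = 𝟙 S) (hS : ∀ x : S, CharZero (S.residueField x))
    {W : X.Opens} (hfp : LocallyOfFinitePresentation (W.ι ≫ f)) (p : S) (hpW : e p ∈ W)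
    [QuasiSeparated f] (hΩ : FlatMod.IsFinLocFree (Omega.sheaf f)) :
    ∃ B : X.Opens, e p ∈ B ∧ B ≤ W ∧ Smooth (B.ι ≫ f) := by
  have hfe : ∀ q, f (e q) = q := fun q => by rw [← Scheme.Hom.comp_apply, he]; rfl
  obtain ⟨O, n, hO, ⟨i⟩⟩ := hΩ (e p)
  obtain ⟨_, ⟨U₀, hU₀, rfl⟩, hpU₀, -⟩ :=
    S.isBasis_affineOpens.exists_subset_of_mem_open (Set.mem_univ p) isOpen_univ
  obtain ⟨_, ⟨V₀, hV₀, rfl⟩, hpV₀, hV₀le⟩ := X.isBasis_affineOpens.exists_subset_of_mem_open
    (show e p ∈ ((W ⊓ O ⊓ f ⁻¹ᵁ U₀ : X.Opens) : Set X) from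
      ⟨⟨hpW, hO⟩, show f (e p) ∈ U₀ by rw [hfe]; exact hpU₀⟩) (W ⊓ O ⊓ f ⁻¹ᵁ U₀).isOpen
  obtain ⟨r, hrle, hpr⟩ := hU₀.exists_basicOpen_le (V := e ⁻¹ᵁ V₀) ⟨p, hpV₀⟩ hpU₀
  have hU : IsAffineOpen (S.basicOpen r) := hU₀.basicOpen r
  let V := X.basicOpen ((f.appLE U₀ V₀ fun z hz => (hV₀le hz).2).hom r)
  have hV : IsAffineOpen V := hV₀.basicOpen _
  have hVeq : V = V₀ ⊓ f ⁻¹ᵁ S.basicOpen r := Scheme.basicOpen_appLE f V₀ U₀ _ r
  have hle : V ≤ f ⁻¹ᵁ S.basicOpen r := hVeq.le.trans inf_le_right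
  have hVW : V ≤ W := fun z hz => (hV₀le ((hVeq.le hz).1)).1.1
  have hVO : V ≤ O := fun z hz => (hV₀le ((hVeq.le hz).1)).1.2
  generalize hUdef : S.basicOpen r = U at hU hle hVeq hpr hrle
  have heV : U ≤ e ⁻¹ᵁ V := fun q hq => by
    show e q ∈ V
    rw [hVeq]
    exact ⟨hrle hq, show f (e q) ∈ U by rw [hfe]; exact hq⟩
  have hpV : e p ∈ V := heV hpr
  let φ := f.appLE U V hle
  letI := φ.hom.toAlgebra
  let ψ := e.appLE V U heV
  have hφψ : φ ≫ ψ = 𝟙 _ := by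
    rw [show φ ≫ ψ = (e ≫ f).appLE U U (by rw [he]; exact le_rfl) from Scheme.Hom.appLE_comp_appLE ..]
    have key : ∀ (g : S ⟶ S) (_ : g = 𝟙 S) (hg : U ≤ g ⁻¹ᵁ U), g.appLE U U hg = 𝟙 _ := by
      intro g hg h
      subst hg
      simp [Scheme.Hom.appLE]
      exact (S.presheaf.map_id _)
    exact key _ he _
  let ε : Γ(X, V) →ₐ[Γ(S, U)] Γ(S, U) :=
    { ψ.hom with
      commutes' := fun a => by
        show (φ ≫ ψ) a = a
        rw [hφψ]; rfl }
  haveI : Algebra.FinitePresentation Γ(S, U) Γ(X, V) := by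
    have h1 : LocallyOfFinitePresentation (V.ι ≫ f) := by
      rw [← X.homOfLE_ι hVW, Category.assoc]; infer_instance
    have h2 : LocallyOfFinitePresentation (f.resLE U V hle) := by
      have : LocallyOfFinitePresentation (f.resLE U V hle ≫ U.ι) := by rw [Scheme.Hom.resLE_comp_ι]; exact h1
      exact MorphismProperty.of_isPullback (P := @LocallyOfFinitePresentation)
        (show IsPullback (𝟙 _) (f.resLE U V hle) (f.resLE U V hle ≫ U.ι) U.ι from
          IsPullback.of_vert_isIso_mono ⟨by simp⟩ |>.flip) this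
    have : IsAffine V.toScheme := hV
    have : IsAffine U.toScheme := hU
    rw [HasRingHomProperty.iff_of_isAffine (P := @LocallyOfFinitePresentation)] at h2
    exact (RingHom.finitePresentation_respectsIso.arrow_mk_iso_iff (arrowResLEAppIso f U V hle)).mp h2
  obtain ⟨b⟩ := Props.QProj.free_sections_of_restrict_iso (Omega.sheaf f) i hV hVO
  obtain ⟨j⟩ := Omega.LocalStructure.exists_tilde_iso (Omega.DiagUniv.isUniversal_dOmega f) hU hV hle
  let eK : Ω[Γ(X, V)⁄Γ(S, U)] ≃ₗ[Γ(X, V)] Γ(Omega.sheaf f, V) :=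
    (tilde.isoTop (Omega.SpecDer.omegaMod Γ(S, U) Γ(X, V))).toLinearEquiv ≪≫ₗ Props.QFP.topEquivOfIso j ≪≫ₗ
      QCoh.toSpecTopLinearEquiv hV (Omega.sheaf f)
  haveI : Module.Free Γ(X, V) Ω[Γ(X, V)⁄Γ(S, U)] := .of_basis (b.map eK.symm)
  let P := (hU.primeIdealOf ⟨p, hpr⟩).asIdeal
  haveI hsm : Algebra.IsSmoothAt Γ(S, U) (P.comap ε.toRingHom) := by
    refine isSmoothAt_of_retraction ε P fun m hm h => ?_
    haveI := hS p
    apply (Nat.cast_ne_zero (R := S.residueField p)).2 hm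
    rw [← map_natCast (S.evaluation U p hpr).hom, Scheme.evaluation_eq_zero_iff_notMem_basicOpen]
    intro hb
    exact ((hU.fromSpec_preimage_basicOpen (m : Γ(S, U))).le
      (show hU.fromSpec (hU.primeIdealOf ⟨p, hpr⟩) ∈ S.basicOpen (m : Γ(S, U)) by
        rw [hU.fromSpec_primeIdealOf]; exact hb)) h
  have hq : (hV.primeIdealOf ⟨e p, hpV⟩).asIdeal = P.comap ε.toRingHom :=
    (congrArg PrimeSpectrum.asIdeal
      (IsAffineOpen.comap_primeIdealOf_appLE (f := e) V hV U hU heV hpr)).symm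
  obtain ⟨g, hg, hgs⟩ := Algebra.IsSmoothAt.exists_notMem_smooth Γ(S, U) (P.comap ε.toRingHom)
  rw [← hq] at hg
  refine ⟨X.basicOpen g, ?_, (X.basicOpen_le g).trans hVW, ?_⟩
  · have h := (hV.fromSpec_preimage_basicOpen g).ge
      (show hV.primeIdealOf ⟨e p, hpV⟩ ∈ PrimeSpectrum.basicOpen g from hg)
    rw [Scheme.Hom.mem_preimage, hV.fromSpec_primeIdealOf] at h
    exact h
  · have hgle : X.basicOpen g ≤ f ⁻¹ᵁ U := (X.basicOpen_le g).trans hle
    have := hV.isLocalization_basicOpen g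
    rw [← RingHom.smooth_algebraMap] at hgs
    have h3 : (f.appLE U (X.basicOpen g) hgle).hom.Smooth := by
      convert!
        RingHom.Smooth.propertyIsLocal.respectsIso.1 _
          (IsLocalization.algEquiv (.powers g) _ Γ(X, X.basicOpen g)).toRingEquiv hgs
      ext
      dsimp
      simp only [IsScalarTower.algebraMap_apply Γ(S, U) Γ(X, V) (Localization _)]
      erw [AlgEquiv.commutes]
      show _ = (φ ≫ X.presheaf.map (homOfLE (X.basicOpen_le g)).op).hom _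
      rw [Scheme.Hom.appLE_map]
    have : IsAffine (X.basicOpen g).toScheme := hV.basicOpen g
    have : IsAffine U.toScheme := hU
    haveI : Smooth (f.resLE U (X.basicOpen g) hgle) := by
      rw [HasRingHomProperty.iff_of_isAffine (P := @Smooth)]
      exact (RingHom.Smooth.respectsIso.arrow_mk_iso_iff (arrowResLEAppIso f U _ hgle)).mpr h3
    rw [← Scheme.Hom.resLE_comp_ι f hgle]
    infer_instance

theorem exists_smooth_open {W : X.Opens} (hfp : LocallyOfFinitePresentation (W.ι ≫ f))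
    (heW : ∀ p, e p ∈ W) (h : ∀ p, ∃ B : X.Opens, e p ∈ B ∧ B ≤ W ∧ Smooth (B.ι ≫ f)) :
    ∃ W' : X.Opens, (∀ p, e p ∈ W') ∧ Smooth (W'.ι ≫ f) := by
  let L := (W.ι ≫ f).smoothLocus
  refine ⟨W.ι ''ᵁ L, fun p => ?_, ?_⟩
  · obtain ⟨B, hB, -, hs⟩ := h p
    refine ⟨⟨e p, heW p⟩, ?_, rfl⟩
    refine (Groth.Agent.EtStruct.smooth_nhd_iff (W.ι ≫ f) _).1 ⟨W.ι ⁻¹ᵁ B, hB, ?_⟩
    rw [← Category.assoc, ← morphismRestrict_ι, Category.assoc]
    infer_instance
  · have : Smooth (L.ι ≫ W.ι ≫ f) := by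
      rw [← Scheme.Hom.smoothLocus_eq_top_iff, ← Scheme.Hom.preimage_smoothLocus_eq, eq_top_iff]
      exact fun z _ => z.2
    rw [← Scheme.Hom.isoImage_inv_ι W.ι L]
    simp only [Category.assoc]
    infer_instance

end Groth.Agent.SmoothUnit27
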