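import Groth.Agent.SmoothUnit27.Closure

/-!
# Formal smoothness at a point of a section with free differentials, residue characteristic zero
-/

set_option autoImplicit false

universe u

open Finset TensorProduct KaehlerDifferential

namespace Groth.Agent.SmoothUnit27

theorem formallySmooth_of_section {A : Type u} [CommRing A] {N : ℕ} (M : Submonoid (MvPolynomial (Fin N) A))
    {Q : Type u} [CommRing Q] [IsLocalRing Q] [Algebra A Q] [Algebra (MvPolynomial (Fin N) A) Q]
    [IsScalarTower A (MvPolynomial (Fin N) A) Q] [IsLocalization M Q]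
    {B : Type u} [CommRing B] [IsLocalRing B] [Algebra A B] [Algebra Q B] [IsScalarTower A Q B]
    (hsurj : Function.Surjective (algebraMap Q B)) (hfg : (RingHom.ker (algebraMap Q B)).FG)
    [Module.Free B Ω[B⁄A]] [Module.Finite B Ω[B⁄A]]
    (y : Fin N → Q) (hyd : ∀ m, ∃ a : A, y m = algebraMap (MvPolynomial (Fin N) A) Q (MvPolynomial.X m) - algebraMap A Q a)
    (hyM : ∀ m, y m ∈ IsLocalRing.maximalIdeal Q)
    (hJy : RingHom.ker (algebraMap Q B) ≤ Ideal.span (Set.range y))
    (hchar : ∀ m : ℕ, m ≠ 0 → IsUnit (m : Q)) : Algebra.FormallySmooth A B := by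
  classical
  set J := RingHom.ker (algebraMap Q B) with hJdef
  haveI : Algebra.FormallySmooth (MvPolynomial (Fin N) A) Q := Algebra.FormallySmooth.of_isLocalization M
  haveI : Algebra.FormallySmooth A Q := Algebra.FormallySmooth.comp A (MvPolynomial (Fin N) A) Q
  let b : Module.Basis (Fin N) Q Ω[Q⁄A] := (KaehlerDifferential.mvPolynomialBasis A (Fin N)).ofIsLocalizedModule Q M
    (KaehlerDifferential.map A A (MvPolynomial (Fin N) A) Q)
  have hb : ∀ m, b m = D A Q (algebraMap (MvPolynomial (Fin N) A) Q (MvPolynomial.X m)) := fun m => by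
    simp [b]
  let d : Fin N → Derivation A Q Q := fun l => (b.coord l).compDer (D A Q)
  have hdy : ∀ l m, d l (y m) = if m = l then 1 else 0 := fun l m => by
    obtain ⟨a, ha⟩ := hyd m
    rw [ha, map_sub, (d l).map_algebraMap, sub_zero]
    show b.coord l (D A Q _) = _
    rw [← hb m, Module.Basis.coord_apply, b.repr_self, Finsupp.single_apply]
  let b' : Module.Basis (Fin N) B (B ⊗[Q] Ω[Q⁄A]) := b.baseChange B
  have hb' : ∀ (z : Q) (l : Fin N), b'.coord l ((1 : B) ⊗ₜ D A Q z) = algebraMap Q B (d l z) := fun z l => by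
    simp [b', d, Algebra.smul_def]
  let μ := KaehlerDifferential.mapBaseChange A Q B
  have hμ : Function.Surjective μ := KaehlerDifferential.mapBaseChange_surjective A Q B hsurj
  haveI : Module.Finite B (B ⊗[Q] Ω[Q⁄A]) := Module.Finite.of_basis b'
  haveI : Module.Free B (B ⊗[Q] Ω[Q⁄A]) := Module.Free.of_basis b'
  obtain ⟨sec, hsec⟩ := Module.projective_lifting_property μ LinearMap.id hμ
  let pr : (B ⊗[Q] Ω[Q⁄A]) →ₗ[B] LinearMap.ker μ :=
    (LinearMap.id - sec ∘ₗ μ).codRestrict _ fun x => by
      simpa [sub_eq_zero] using (LinearMap.congr_fun hsec (μ x)).symm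
  have hpr : ∀ z : LinearMap.ker μ, pr z = z := fun z => Subtype.ext (by simp [pr])
  haveI : Module.Finite B (LinearMap.ker μ) := Module.Finite.of_surjective pr fun z => ⟨z, hpr z⟩
  haveI : Module.Projective B (LinearMap.ker μ) :=
    Module.Projective.of_split (LinearMap.ker μ).subtype pr (LinearMap.ext hpr)
  haveI : Module.Free B (LinearMap.ker μ) :=
    @Module.free_of_flat_of_isLocalRing B (LinearMap.ker μ) _ _ _ _ _ _
  let kb := Module.finBasis B (LinearMap.ker μ)
  have hk : ∀ j, ∃ g ∈ J, (1 : B) ⊗ₜ D A Q g = ((kb j : LinearMap.ker μ) : B ⊗[Q] Ω[Q⁄A]) := fun j => by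
    obtain ⟨x, hx⟩ := (exact_kerCotangentToTensor_mapBaseChange A Q B hsurj (kb j)).1 (kb j).2
    obtain ⟨g, rfl⟩ := Ideal.toCotangent_surjective _ x
    exact ⟨g.1, g.2, by rw [← hx, kerCotangentToTensor_toCotangent]⟩
  choose g hgJ hg using hk
  have hgM : Ideal.span (Set.range g) ≤ J := Ideal.span_le.2 (Set.range_subset_iff.2 hgJ)
  let ρ : (B ⊗[Q] Ω[Q⁄A]) →ₗ[B] (Fin _ → B) := kb.equivFun.toLinearMap ∘ₗ pr
  have hρ : ∀ i j, ρ ((1 : B) ⊗ₜ D A Q (g i)) j = if i = j then 1 else 0 := fun i j => by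
    rw [hg]
    simp [ρ, hpr, Finsupp.single_apply]
  choose Λ hΛ using fun j m => hsurj (ρ (b' m) j)
  let Mx : Matrix (Fin N) (Fin (Module.finrank B (LinearMap.ker μ))) Q := Matrix.of fun m i => d m (g i)
  let L : Matrix (Fin (Module.finrank B (LinearMap.ker μ))) (Fin N) Q := Matrix.of Λ
  have hLM : ((L * Mx).map (algebraMap Q B)) = 1 := by
    ext j i
    have h := hρ i j
    rw [← b'.sum_repr ((1 : B) ⊗ₜ D A Q (g i)), map_sum, Finset.sum_apply] at h
    simp only [map_smul, Pi.smul_apply, smul_eq_mul, ← Module.Basis.coord_apply, hb'] at h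
    rw [Matrix.map_apply, Matrix.mul_apply, map_sum, Matrix.one_apply]
    refine Eq.trans (sum_congr rfl fun m _ => ?_) (h.trans (if_congr eq_comm rfl rfl))
    rw [map_mul, mul_comm]
    congr 1
    exact hΛ j m
  haveI := hsurj.isLocalHom
  have hu : IsUnit (L * Mx) := by
    refine (Matrix.isUnit_iff_isUnit_det _).2 ((isUnit_map_iff (algebraMap Q B) _).1 ?_)
    rw [RingHom.map_det, RingHom.mapMatrix_apply, hLM, Matrix.det_one]
    exact isUnit_one
  let L' := (L * Mx)⁻¹ * L
  have hL' : L' * Mx = 1 := by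
    rw [Matrix.mul_assoc]
    exact Matrix.nonsing_inv_mul _ ((Matrix.isUnit_iff_isUnit_det _).1 hu)
  let Dd : Fin N → Derivation A Q Q := fun l => d l - ∑ j, d l (g j) • ∑ m, L' j m • d m
  have hDd : ∀ l z, Dd l z = d l z - ∑ j, d l (g j) * ∑ m, L' j m * d m z := fun l z => by
    let e : Derivation A Q Q →+ Q := AddMonoidHom.mk' (fun E => E z) (fun _ _ => rfl)
    have he : ∀ E, e E = E z := fun _ => rfl
    show e (Dd l) = _
    rw [show Dd l = d l - ∑ j, d l (g j) • ∑ m, L' j m • d m from rfl, map_sub, map_sum, he]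
    refine congrArg (d l z - ·) (sum_congr rfl fun j _ => ?_)
    rw [he, Derivation.smul_apply, smul_eq_mul]
    refine congrArg (d l (g j) * ·) ?_
    rw [← he, map_sum]
    exact sum_congr rfl fun m _ => rfl
  have hDg : ∀ l i, Dd l (g i) = 0 := fun l i => by
    have h1 : ∀ j, (∑ m, L' j m * d m (g i)) = (1 : Matrix _ _ Q) j i := fun j => by
      rw [← hL', Matrix.mul_apply]; rfl
    simp [hDd, h1, Matrix.one_apply]
  have hlin : ∀ F ∈ J, ∃ R : _ → Q, ∀ m, d m F - ∑ i, R i * d m (g i) ∈ J := fun F hF => by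
    have hmem : (1 : B) ⊗ₜ D A Q F ∈ LinearMap.ker μ := by
      have : algebraMap Q B F = 0 := hF
      simp [μ, this]
    choose R hR using fun i => hsurj (kb.repr ⟨_, hmem⟩ i)
    refine ⟨R, fun m => ?_⟩
    have h := congrArg (fun z : LinearMap.ker μ => b'.coord m z.1) (kb.sum_repr ⟨_, hmem⟩)
    simp only [Submodule.coe_sum, Submodule.coe_smul, map_sum, map_smul, smul_eq_mul, ← hg, hb'] at h
    rw [hJdef, RingHom.mem_ker, map_sub, map_sum, ← h, sub_eq_zero]
    exact sum_congr rfl fun i _ => by rw [map_mul, hR]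
  have hDJ : ∀ l, ∀ F ∈ J, Dd l F ∈ J := fun l F hF => by
    obtain ⟨R, hR⟩ := hlin F hF
    have h2 : Dd l F = (d l F - ∑ i, R i * d l (g i)) -
        ∑ j, d l (g j) * ∑ m, L' j m * (d m F - ∑ i, R i * d m (g i)) + ∑ i, R i * Dd l (g i) := by
      simp only [hDd, mul_sub, sum_sub_distrib, mul_sum]
      have e : ∑ i, ∑ j, ∑ m, R i * (d l (g j) * (L' j m * d m (g i))) =
          ∑ j, ∑ m, ∑ i, d l (g j) * (L' j m * (R i * d m (g i))) := by
        rw [sum_comm]
        refine sum_congr rfl fun j _ => ?_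
        rw [sum_comm]
        exact sum_congr rfl fun m _ => sum_congr rfl fun i _ => by ring
      linear_combination e
    rw [h2]
    simp only [hDg, mul_zero, sum_const_zero, add_zero]
    exact sub_mem (hR l) (sum_mem fun j _ => Ideal.mul_mem_left _ _ (sum_mem fun m _ => Ideal.mul_mem_left _ _ (hR m)))
  have hgy : ∀ j, (∑ l, y l * d l (g j)) ∈ Ideal.span (Set.range g) ⊔ Ideal.span (Set.range y) ^ 2 := fun j => by
    obtain ⟨c, hc⟩ := Ideal.mem_span_range_iff_exists_fun.1 (hJy (hgJ j))
    have : (∑ l, y l * d l (g j)) = g j + ∑ m, ∑ l, (y m * y l) * d l (c m) := by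
      rw [← hc]
      simp only [map_sum, Derivation.leibniz, smul_eq_mul, hdy, mul_sum, mul_add, sum_add_distrib, mul_ite,
        mul_one, mul_zero, sum_ite_eq', mem_univ, if_true]
      refine congrArg₂ (· + ·) (sum_congr rfl fun m _ => mul_comm _ _) ?_
      rw [sum_comm]
      exact sum_congr rfl fun m _ => sum_congr rfl fun l _ => by ring
    rw [this]
    refine add_mem (Ideal.mem_sup_left (Ideal.subset_span ⟨j, rfl⟩))
      (Ideal.mem_sup_right (sum_mem fun m _ => sum_mem fun l _ => Ideal.mul_mem_right _ _ ?_))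
    rw [pow_two]
    exact Ideal.mul_mem_mul (Ideal.subset_span ⟨m, rfl⟩) (Ideal.subset_span ⟨l, rfl⟩)
  have hyE : ∀ m, (∑ l, y l * Dd l (y m)) - y m ∈ Ideal.span (Set.range g) ⊔ Ideal.span (Set.range y) ^ 2 := fun m => by
    have : (∑ l, y l * Dd l (y m)) - y m = -∑ j, (∑ l, y l * d l (g j)) * L' j m := by
      simp only [hDd, hdy, mul_sub, sum_sub_distrib, mul_ite, mul_one, mul_zero, sum_ite_eq, mem_univ, if_true,
        sum_mul]
      rw [sum_comm]
      simp [mul_sum, mul_assoc]
    rw [this]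
    exact neg_mem (sum_mem fun j _ => Ideal.mul_mem_right _ _ (hgy j))
  have hJg : J = Ideal.span (Set.range g) :=
    le_antisymm (le_span_of_stable M g J hfg y Dd hDg hDJ hJy hyM hyE hchar) hgM
  refine Algebra.formallySmooth_iff A B |>.2 ⟨inferInstance, ?_⟩
  rw [← Algebra.FormallySmooth.kerCotangentToTensor_injective_iff (P := Q) hsurj, injective_iff_map_eq_zero]
  intro x hx
  obtain ⟨⟨F, hF⟩, rfl⟩ := Ideal.toCotangent_surjective _ x
  obtain ⟨r, hr⟩ := Ideal.mem_span_range_iff_exists_fun.1 (hJg ▸ hF : F ∈ Ideal.span (Set.range g))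
  have hr0 : ∀ i, r i ∈ J := fun i => by
    rw [kerCotangentToTensor_toCotangent] at hx
    have h := congrArg (fun z => ρ z i) hx
    have hts : ∀ (q : Q) (z : Ω[Q⁄A]), (1 : B) ⊗ₜ[Q] (q • z) = algebraMap Q B q • ((1 : B) ⊗ₜ[Q] z) :=
      fun q z => by rw [tmul_smul, algebraMap_smul]
    have h0 : ∀ j, algebraMap Q B (g j) = 0 := hgJ
    simp only [← hr, map_sum, Derivation.leibniz, tmul_add, tmul_sum, hts, sum_add_distrib] at h
    simp only [h0, zero_smul, sum_const_zero, add_zero, map_sum, map_smul,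
      Finset.sum_apply, Pi.smul_apply, hρ, smul_eq_mul, mul_ite, mul_one, mul_zero, sum_ite_eq', mem_univ,
      if_true, map_zero, Pi.zero_apply] at h
    exact h
  rw [Ideal.toCotangent_eq_zero]
  show F ∈ J ^ 2
  rw [← hr, pow_two]
  exact sum_mem fun i _ => Ideal.mul_mem_mul (hr0 i) (hgJ i)

/-- A finitely presented algebra with a retraction and free differentials is smooth along the retraction,
in residue characteristic zero. -/
theorem isSmoothAt_of_retraction {A B : Type u} [CommRing A] [CommRing B] [Algebra A B] [Algebra.FinitePresentation A B]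
    [Module.Free B Ω[B⁄A]] (ε : B →ₐ[A] A) (p : Ideal A) [p.IsPrime]
    (hchar : ∀ m : ℕ, m ≠ 0 → (m : A) ∉ p) : Algebra.IsSmoothAt A (p.comap ε.toRingHom) := by
  classical
  obtain ⟨N, π, hπ, hker⟩ := (‹Algebra.FinitePresentation A B›).out
  set q := p.comap ε.toRingHom
  set q' := q.comap π.toRingHom
  let f : Localization.AtPrime q' →+* Localization.AtPrime q := Localization.localRingHom q' q π.toRingHom rfl
  letI := f.toAlgebra
  haveI : IsScalarTower A (Localization.AtPrime q') (Localization.AtPrime q) := by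
    refine IsScalarTower.of_algebraMap_eq fun a => ?_
    rw [IsScalarTower.algebraMap_apply A (MvPolynomial (Fin N) A) (Localization.AtPrime q'),
      RingHom.algebraMap_toAlgebra, Localization.localRingHom_to_map]
    show _ = algebraMap B _ (π (algebraMap A _ a))
    rw [π.commutes, ← IsScalarTower.algebraMap_apply]
  have hmap : Submonoid.map π.toRingHom q'.primeCompl = q.primeCompl := by
    ext z
    constructor
    · rintro ⟨w, hw, rfl⟩; exact hw
    · intro hz; obtain ⟨w, rfl⟩ := hπ z; exact ⟨w, hz, rfl⟩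
  have hsurj : Function.Surjective f := fun z => by
    obtain ⟨b, s, rfl⟩ := IsLocalization.exists_mk'_eq q.primeCompl z
    obtain ⟨b', rfl⟩ := hπ b
    obtain ⟨w, hw, hws⟩ : (s : B) ∈ Submonoid.map π.toRingHom q'.primeCompl := hmap.symm ▸ s.2
    refine ⟨IsLocalization.mk' _ b' ⟨w, hw⟩, ?_⟩
    rw [Localization.localRingHom_mk']
    congr 1
    exact Subtype.ext hws
  have hk : RingHom.ker f = (RingHom.ker π.toRingHom).map (algebraMap _ _) :=
    IsLocalization.ker_map (Localization.AtPrime q) (g := π.toRingHom) hmap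
  have hfg : (RingHom.ker (algebraMap (Localization.AtPrime q') (Localization.AtPrime q))).FG :=
    hk.symm ▸ Ideal.FG.map hker _
  haveI : IsLocalizedModule q.primeCompl (KaehlerDifferential.map A A B (Localization.AtPrime q)) := inferInstance
  haveI : Module.Free (Localization.AtPrime q) Ω[Localization.AtPrime q⁄A] :=
    Module.Free.of_basis ((Module.Free.chooseBasis B Ω[B⁄A]).ofIsLocalizedModule _ q.primeCompl
      (KaehlerDifferential.map A A B (Localization.AtPrime q)))
  haveI : Module.Finite (Localization.AtPrime q) Ω[Localization.AtPrime q⁄A] :=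
    Module.Finite.of_basis ((Module.Free.chooseBasis B Ω[B⁄A]).ofIsLocalizedModule _ q.primeCompl
      (KaehlerDifferential.map A A B (Localization.AtPrime q)))
  let a : Fin N → A := fun m => ε (π (MvPolynomial.X m))
  have hsub : ∀ F : MvPolynomial (Fin N) A, F - MvPolynomial.C (ε (π F)) ∈
      Ideal.span (Set.range fun m => MvPolynomial.X m - MvPolynomial.C (a m)) := by
    intro F
    induction F using MvPolynomial.induction_on with
    | C r => simp
    | add u v hu hv =>
      simp only [map_add]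
      rw [add_sub_add_comm]; exact add_mem hu hv
    | mul_X u m hu =>
      rw [map_mul, map_mul, map_mul, show u * MvPolynomial.X m - MvPolynomial.C (ε (π u)) * MvPolynomial.C (a m) =
        (u - MvPolynomial.C (ε (π u))) * MvPolynomial.X m +
          MvPolynomial.C (ε (π u)) * (MvPolynomial.X m - MvPolynomial.C (a m)) by ring]
      exact add_mem (Ideal.mul_mem_right _ _ hu) (Ideal.mul_mem_left _ _ (Ideal.subset_span ⟨m, rfl⟩))
  refine formallySmooth_of_section (q'.primeCompl) hsurj hfg
    (fun m => algebraMap _ _ (MvPolynomial.X m - MvPolynomial.C (a m))) (fun m => ⟨a m, ?_⟩) (fun m => ?_) ?_ ?_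
  · rw [map_sub, ← MvPolynomial.algebraMap_eq, ← IsScalarTower.algebraMap_apply]
  · rw [IsLocalization.AtPrime.to_map_mem_maximal_iff _ q']
    show ε (π _) ∈ p
    simp [a]
  · show RingHom.ker f ≤ _
    rw [hk, Ideal.map_le_iff_le_comap]
    intro F hF
    have hF0 : π F = 0 := hF
    rw [← sub_zero F, show (0 : MvPolynomial (Fin N) A) = MvPolynomial.C (ε (π F)) by rw [hF0, map_zero, map_zero]]
    have := Ideal.mem_map_of_mem (algebraMap (MvPolynomial (Fin N) A) (Localization.AtPrime q')) (hsub F)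
    rwa [Ideal.map_span, ← Set.range_comp] at this
  · intro m hm
    rw [← map_natCast (algebraMap (MvPolynomial (Fin N) A) (Localization.AtPrime q')),
      IsLocalization.AtPrime.isUnit_to_map_iff _ q']
    show ε (π (m : MvPolynomial (Fin N) A)) ∉ p
    simpa using hchar m hm

end Groth.Agent.SmoothUnit27
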