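import Mathlib

/-!
# An ideal stable under enough derivations and killed by a section is trivial

Finitely many elements of a localization of a polynomial ring lie in a Noetherian subring which is
stable under given derivations, so Krull's intersection theorem applies over any base.
-/

set_option autoImplicit false

universe u

open Finset

namespace Groth.Agent.SmoothUnit27

section Noeth

variable {C : Type u} [CommRing C] [IsNoetherianRing C] {N : ℕ} (y : Fin N → C) (G J : Ideal C)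
  (D : Fin N → Derivation ℤ C C)

/-- The Euler operator. -/
noncomputable def euler (z : C) : C := ∑ l, y l * D l z

theorem euler_mul (u v : C) : euler y D (u * v) = u * euler y D v + v * euler y D u := by
  simp only [euler, Derivation.leibniz, smul_eq_mul, mul_sum, ← sum_add_distrib]
  exact sum_congr rfl fun l _ => by ring

theorem euler_add (u v : C) : euler y D (u + v) = euler y D u + euler y D v := by
  simp only [euler, map_add, mul_add, sum_add_distrib]

theorem euler_mem (z : C) : euler y D z ∈ Ideal.span (Set.range y) :=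
  sum_mem fun l _ => Ideal.mul_mem_right _ _ (Ideal.subset_span ⟨l, rfl⟩)

theorem euler_sub_mem (hy : ∀ m, euler y D (y m) - y m ∈ G ⊔ Ideal.span (Set.range y) ^ 2) {v : C}
    (hv : v ∈ Ideal.span (Set.range y)) : euler y D v - v ∈ G ⊔ Ideal.span (Set.range y) ^ 2 := by
  induction hv using Submodule.span_induction with
  | mem x hx => obtain ⟨m, rfl⟩ := hx; exact hy m
  | zero => simp [euler]
  | add a b _ _ ha hb =>
    rw [euler_add, show euler y D a + euler y D b - (a + b) = (euler y D a - a) + (euler y D b - b) by ring]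
    exact add_mem ha hb
  | smul c x hx h =>
    rw [smul_eq_mul, euler_mul, show c * euler y D x + x * euler y D c - c * x =
      c * (euler y D x - x) + x * euler y D c by ring]
    refine add_mem (Ideal.mul_mem_left _ _ h) (Ideal.mem_sup_right ?_)
    rw [pow_two]; exact Ideal.mul_mem_mul hx (euler_mem y D c)

theorem euler_pow (hy : ∀ m, euler y D (y m) - y m ∈ G ⊔ Ideal.span (Set.range y) ^ 2) :
    ∀ (m : ℕ), ∀ w ∈ Ideal.span (Set.range y) ^ m,
      euler y D w - m * w ∈ G ⊔ Ideal.span (Set.range y) ^ (m + 1) := by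
  intro m
  induction m with
  | zero =>
    intro w _
    rw [Nat.cast_zero, zero_mul, sub_zero, zero_add, pow_one]
    exact Ideal.mem_sup_right (euler_mem y D w)
  | succ m ih =>
    set I := Ideal.span (Set.range y)
    intro w hw
    rw [pow_succ] at hw
    induction hw using Submodule.mul_induction_on' with
    | mem_mul_mem u hu v hv =>
      rw [euler_mul, show u * euler y D v + v * euler y D u - ((m + 1 : ℕ) : C) * (u * v) =
        v * (euler y D u - m * u) + u * (euler y D v - v) by push_cast; ring]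
      refine add_mem ?_ ?_
      · obtain ⟨g, hg, r, hr, e⟩ := Submodule.mem_sup.1 (ih u hu)
        rw [← e, mul_add]
        exact add_mem (Ideal.mem_sup_left (Ideal.mul_mem_left _ _ hg))
          (Ideal.mem_sup_right (by rw [pow_succ' I (m + 1)]; exact Ideal.mul_mem_mul hv hr))
      · obtain ⟨g, hg, r, hr, e⟩ := Submodule.mem_sup.1 (euler_sub_mem y G D hy hv)
        rw [← e, mul_add]
        refine add_mem (Ideal.mem_sup_left (Ideal.mul_mem_left _ _ hg)) (Ideal.mem_sup_right ?_)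
        rw [show m + 1 + 1 = m + 2 by ring, pow_add]
        exact Ideal.mul_mem_mul hu hr
    | add a _ b _ ha hb =>
      rw [euler_add, mul_add, show euler y D a + euler y D b - (((m + 1 : ℕ) : C) * a + ((m + 1 : ℕ) : C) * b) =
        (euler y D a - ((m + 1 : ℕ) : C) * a) + (euler y D b - ((m + 1 : ℕ) : C) * b) by ring]
      exact add_mem ha hb

theorem le_of_stable (hG : ∀ l, ∀ z ∈ G, D l z ∈ G) (hJ : ∀ l, ∀ z ∈ J, D l z ∈ J)
    (hJI : J ≤ G ⊔ Ideal.span (Set.range y))
    (hy : ∀ m, euler y D (y m) - y m ∈ G ⊔ Ideal.span (Set.range y) ^ 2)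
    (hchar : ∀ m : ℕ, m ≠ 0 → IsUnit (m : C))
    (hrad : ∀ r ∈ Ideal.span (Set.range y), IsUnit (1 - r)) : J ≤ G := by
  set I := Ideal.span (Set.range y)
  have key : ∀ m : ℕ, J ≤ G ⊔ I ^ (m + 1) := by
    intro m
    induction m with
    | zero => simpa using hJI
    | succ m ih =>
      intro z hz
      obtain ⟨g, hg, w, hw, rfl⟩ := Submodule.mem_sup.1 (ih hz)
      have h1 : euler y D (g + w) ∈ G ⊔ I ^ (m + 2) := sum_mem fun l _ => by
        obtain ⟨g', hg', w', hw', e⟩ := Submodule.mem_sup.1 (ih (hJ l _ hz))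
        rw [← e, mul_add]
        exact add_mem (Ideal.mem_sup_left (Ideal.mul_mem_left _ _ hg'))
          (Ideal.mem_sup_right (by rw [pow_succ' I (m + 1)]; exact Ideal.mul_mem_mul (Ideal.subset_span ⟨l, rfl⟩) hw'))
      have h2 : euler y D g ∈ G ⊔ I ^ (m + 2) :=
        Ideal.mem_sup_left (sum_mem fun l _ => Ideal.mul_mem_left _ _ (hG l g hg))
      rw [euler_add] at h1
      have h3 := sub_mem (sub_mem h1 h2) (euler_pow y G D hy (m + 1) w hw)
      rw [show euler y D g + euler y D w - euler y D g - (euler y D w - ((m + 1 : ℕ) : C) * w) =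
        ((m + 1 : ℕ) : C) * w by ring] at h3
      exact add_mem (Ideal.mem_sup_left hg)
        ((Ideal.unit_mul_mem_iff_mem _ (hchar (m + 1) (Nat.succ_ne_zero m))).1 h3)
  intro z hz
  have hmem : Ideal.Quotient.mk G z ∈ ⨅ i : ℕ, I ^ i • (⊤ : Submodule C (C ⧸ G)) := by
    refine Submodule.mem_iInf _ |>.2 fun i => ?_
    cases i with
    | zero => simp
    | succ m =>
      obtain ⟨g, hg, w, hw, rfl⟩ := Submodule.mem_sup.1 (key m hz)
      rw [map_add, Ideal.Quotient.eq_zero_iff_mem.2 hg, zero_add]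
      rw [show Ideal.Quotient.mk G w = w • (1 : C ⧸ G) by rw [Algebra.smul_def, mul_one]; rfl]
      exact Submodule.smul_mem_smul hw trivial
  obtain ⟨r, hr⟩ := (Ideal.mem_iInf_smul_pow_eq_bot_iff I _).1 hmem
  have : (1 - r.1) * z ∈ G := by
    rw [← Ideal.Quotient.eq_zero_iff_mem, map_mul, map_sub, map_one, sub_mul, one_mul]
    rw [Algebra.smul_def] at hr
    rw [sub_eq_zero]
    exact hr.symm
  exact (Ideal.unit_mul_mem_iff_mem _ (hrad r.1 r.2)).1 this

end Noeth

section Closure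

variable {A : Type u} [CommRing A] {N : ℕ} (M : Submonoid (MvPolynomial (Fin N) A))
  {Q : Type u} [CommRing Q] [Algebra A Q] [Algebra (MvPolynomial (Fin N) A) Q]
  [IsScalarTower A (MvPolynomial (Fin N) A) Q] [IsLocalization M Q]

/-- The images of the variables and of finitely many constants. -/
def gens (T : Finset A) : Set Q :=
  Set.range (fun m => algebraMap (MvPolynomial (Fin N) A) Q (MvPolynomial.X m)) ∪ algebraMap A Q '' ↑T

/-- Fractions of polynomials with coefficients generated by `T`. -/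
def frac (T : Finset A) : Subring Q where
  carrier := {z | ∃ a ∈ Algebra.adjoin ℤ (gens (Q := Q) (N := N) T),
    ∃ b ∈ Algebra.adjoin ℤ (gens (Q := Q) (N := N) T), IsUnit b ∧ z * b = a}
  zero_mem' := ⟨0, zero_mem _, 1, one_mem _, isUnit_one, by simp⟩
  one_mem' := ⟨1, one_mem _, 1, one_mem _, isUnit_one, by simp⟩
  add_mem' := by
    rintro z w ⟨a, ha, b, hb, hu, e⟩ ⟨a', ha', b', hb', hu', e'⟩
    exact ⟨a * b' + a' * b, add_mem (mul_mem ha hb') (mul_mem ha' hb), b * b', mul_mem hb hb',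
      hu.mul hu', by rw [← e, ← e']; ring⟩
  mul_mem' := by
    rintro z w ⟨a, ha, b, hb, hu, e⟩ ⟨a', ha', b', hb', hu', e'⟩
    exact ⟨a * a', mul_mem ha ha', b * b', mul_mem hb hb', hu.mul hu', by rw [← e, ← e']; ring⟩
  neg_mem' := by
    rintro z ⟨a, ha, b, hb, hu, e⟩
    exact ⟨-a, neg_mem ha, b, hb, hu, by rw [← e]; ring⟩

theorem mem_frac_of_mem_adjoin (T : Finset A) {z : Q}
    (hz : z ∈ Algebra.adjoin ℤ (gens (Q := Q) (N := N) T)) : z ∈ frac (Q := Q) (N := N) T :=
  ⟨z, hz, 1, one_mem _, isUnit_one, mul_one z⟩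

theorem frac_mono {T T' : Finset A} (h : T ⊆ T') : frac (Q := Q) (N := N) T ≤ frac (Q := Q) (N := N) T' := by
  rintro z ⟨a, ha, b, hb, hu, e⟩
  have hle : Algebra.adjoin ℤ (gens (Q := Q) (N := N) T) ≤ Algebra.adjoin ℤ (gens (Q := Q) (N := N) T') :=
    Algebra.adjoin_mono (Set.union_subset_union_right _ (Set.image_mono (Finset.coe_subset.2 h)))
  exact ⟨a, hle ha, b, hle hb, hu, e⟩

theorem exists_poly_mem [DecidableEq A] (p : MvPolynomial (Fin N) A) : ∃ T : Finset A,
    algebraMap (MvPolynomial (Fin N) A) Q p ∈ Algebra.adjoin ℤ (gens (Q := Q) (N := N) T) := by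
  refine ⟨p.support.image p.coeff, ?_⟩
  conv in algebraMap _ Q p => rw [p.as_sum]
  rw [map_sum]
  refine sum_mem fun s hs => ?_
  rw [MvPolynomial.monomial_eq, map_mul, ← MvPolynomial.algebraMap_eq, ← IsScalarTower.algebraMap_apply,
    Finsupp.prod, map_prod]
  refine mul_mem (Algebra.subset_adjoin (Set.mem_union_right _
    (Set.mem_image_of_mem _ (Finset.mem_coe.2 (mem_image_of_mem _ hs)))))
    (prod_mem fun m _ => ?_)
  rw [map_pow]
  exact pow_mem (Algebra.subset_adjoin (Set.mem_union_left _ (Set.mem_range_self m))) _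

include M in
theorem exists_frac_mem [DecidableEq A] (z : Q) : ∃ T : Finset A, z ∈ frac (Q := Q) (N := N) T := by
  obtain ⟨⟨p, s⟩, hps⟩ := IsLocalization.surj M z
  obtain ⟨T₁, h₁⟩ := exists_poly_mem (Q := Q) p
  obtain ⟨T₂, h₂⟩ := exists_poly_mem (Q := Q) s.1
  have hle : ∀ T' ⊆ T₁ ∪ T₂, Algebra.adjoin ℤ (gens (Q := Q) (N := N) T') ≤
      Algebra.adjoin ℤ (gens (Q := Q) (N := N) (T₁ ∪ T₂)) := fun T' h =>
    Algebra.adjoin_mono (Set.union_subset_union_right _ (Set.image_mono (Finset.coe_subset.2 h)))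
  exact ⟨T₁ ∪ T₂, _, hle _ subset_union_left h₁, _, hle _ subset_union_right h₂,
    IsLocalization.map_units Q s, hps⟩

include M in
theorem exists_frac_of_finite [DecidableEq A] (s : Set Q) (hs : s.Finite) :
    ∃ T : Finset A, ∀ z ∈ s, z ∈ frac (Q := Q) (N := N) T := by
  choose T hT using exists_frac_mem (N := N) M (Q := Q)
  exact ⟨hs.toFinset.biUnion T, fun z hz =>
    frac_mono (subset_biUnion_of_mem T (hs.mem_toFinset.2 hz)) (hT z)⟩

theorem isNoetherianRing_frac (T : Finset A) : IsNoetherianRing (frac (Q := Q) (N := N) T) := by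
  let C₀ := Algebra.adjoin ℤ (gens (Q := Q) (N := N) T)
  haveI : IsNoetherianRing C₀ :=
    isNoetherianRing_of_fg (Subalgebra.fg_def.2 ⟨_, (Set.finite_range _).union (T.finite_toSet.image _), rfl⟩)
  let U : Submonoid C₀ := (IsUnit.submonoid Q).comap C₀.val.toRingHom.toMonoidHom
  haveI : IsNoetherianRing (Localization U) := IsLocalization.isNoetherianRing U _ inferInstance
  let i : C₀ →+* frac (Q := Q) (N := N) T :=
    C₀.val.toRingHom.codRestrict _ fun z => mem_frac_of_mem_adjoin T z.2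
  have hi : ∀ u : U, IsUnit (i u) := fun u => by
    obtain ⟨v, hv⟩ := (u.2 : IsUnit (u.1 : Q))
    refine IsUnit.of_mul_eq_one ⟨(v⁻¹ : Qˣ), ⟨1, one_mem _, _, u.1.2, u.2, ?_⟩⟩ (Subtype.ext ?_)
    · show (v⁻¹ : Qˣ) * (u.1 : Q) = 1
      rw [show (u.1 : Q) = v from hv.symm]; exact v.inv_mul
    · show (u.1 : Q) * (v⁻¹ : Qˣ) = 1
      rw [show (u.1 : Q) = v from hv.symm]; exact v.mul_inv
  refine isNoetherianRing_of_surjective (Localization U) _ (IsLocalization.lift (M := U) hi) ?_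
  rintro ⟨z, a, ha, b, hb, hu, e⟩
  refine ⟨IsLocalization.mk' _ ⟨a, ha⟩ (⟨⟨b, hb⟩, hu⟩ : U), (IsLocalization.lift_mk'_spec _ _ _ _).2 ?_⟩
  exact Subtype.ext (e.symm.trans (mul_comm z b))

theorem isUnit_frac (T : Finset A) (z : frac (Q := Q) (N := N) T) (hz : IsUnit (z : Q)) : IsUnit z := by
  obtain ⟨a, ha, b, hb, hu, e⟩ := z.2
  have hua : IsUnit a := e ▸ hz.mul hu
  obtain ⟨v, hv⟩ := hz
  refine IsUnit.of_mul_eq_one ⟨(v⁻¹ : Qˣ), ⟨b, hb, a, ha, hua, ?_⟩⟩ (Subtype.ext ?_)
  · rw [← e, ← hv, ← mul_assoc, v.inv_mul, one_mul]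
  · show (z : Q) * (v⁻¹ : Qˣ) = 1
    rw [← hv]; exact v.mul_inv

theorem derivation_mem (T : Finset A) (D : Derivation A Q Q)
    (hD : ∀ m, D (algebraMap (MvPolynomial (Fin N) A) Q (MvPolynomial.X m)) ∈ frac (Q := Q) (N := N) T)
    {z : Q} (hz : z ∈ frac (Q := Q) (N := N) T) : D z ∈ frac (Q := Q) (N := N) T := by
  have h0 : ∀ w ∈ Algebra.adjoin ℤ (gens (Q := Q) (N := N) T), D w ∈ frac (Q := Q) (N := N) T := by
    intro w hw
    induction hw using Algebra.adjoin_induction with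
    | mem x hx =>
      rcases hx with ⟨m, rfl⟩ | ⟨r, -, rfl⟩
      · exact hD m
      · rw [D.map_algebraMap]; exact zero_mem _
    | algebraMap r =>
      have : D (algebraMap ℤ Q r) = 0 := by rw [eq_intCast, D.map_intCast]
      rw [this]; exact zero_mem _
    | add a b _ _ ha hb => rw [map_add]; exact add_mem ha hb
    | mul a b ha' hb' ha hb =>
      rw [D.leibniz, smul_eq_mul, smul_eq_mul]
      exact add_mem (mul_mem (mem_frac_of_mem_adjoin T ha') hb) (mul_mem (mem_frac_of_mem_adjoin T hb') ha)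
  obtain ⟨a, ha, b, hb, hu, e⟩ := hz
  have hw : D z * b ∈ frac (Q := Q) (N := N) T := by
    have h1 : D z * b = D a - z * D b := by
      rw [← e, D.leibniz, smul_eq_mul, smul_eq_mul]; ring
    rw [h1]
    exact sub_mem (h0 a ha) (mul_mem ⟨a, ha, b, hb, hu, e⟩ (h0 b hb))
  obtain ⟨a', ha', b', hb', hu', e'⟩ := hw
  exact ⟨a', ha', b * b', mul_mem hb hb', hu.mul hu', by rw [← e']; ring⟩

end Closure

/-- An ideal `J` of a local localization of a polynomial ring over any base which is stable under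
derivations `D` killing `g`, with `∑ y D` the identity on `(y)/(g, y²)`, and contained in `(y)`,
is contained in `(g)` in residue characteristic zero. -/
theorem le_span_of_stable {A : Type u} [CommRing A] {N c : ℕ} (M : Submonoid (MvPolynomial (Fin N) A))
    {Q : Type u} [CommRing Q] [IsLocalRing Q] [Algebra A Q] [Algebra (MvPolynomial (Fin N) A) Q]
    [IsScalarTower A (MvPolynomial (Fin N) A) Q] [IsLocalization M Q]
    (g : Fin c → Q) (J : Ideal Q) (hJfg : J.FG) (y : Fin N → Q) (D : Fin N → Derivation A Q Q)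
    (hDg : ∀ l j, D l (g j) = 0) (hJ : ∀ l, ∀ z ∈ J, D l z ∈ J) (hJI : J ≤ Ideal.span (Set.range y))
    (hyM : ∀ m, y m ∈ IsLocalRing.maximalIdeal Q)
    (hy : ∀ m, (∑ l, y l * D l (y m)) - y m ∈ Ideal.span (Set.range g) ⊔ Ideal.span (Set.range y) ^ 2)
    (hchar : ∀ m : ℕ, m ≠ 0 → IsUnit (m : Q)) : J ≤ Ideal.span (Set.range g) := by
  classical
  obtain ⟨r, h, rfl⟩ : ∃ (r : ℕ) (h : Fin r → Q), Ideal.span (Set.range h) = J := by
    obtain ⟨r, h, hh⟩ := Submodule.fg_iff_exists_fin_generating_family.1 hJfg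
    exact ⟨r, h, hh⟩
  choose c₁ hc₁ using fun k => Ideal.mem_span_range_iff_exists_fun.1 (hJI (Ideal.subset_span (Set.mem_range_self k)))
  choose c₂ hc₂ using fun l k => Ideal.mem_span_range_iff_exists_fun.1 (hJ l (h k) (Ideal.subset_span (Set.mem_range_self k)))
  have hy2 : ∀ m, ∃ (c₃ : Fin c → Q) (c₄ : Fin N × Fin N → Q),
      (∑ l, y l * D l (y m)) - y m = ∑ j, c₃ j * g j + ∑ ab, c₄ ab * (y ab.1 * y ab.2) := fun m => by
    obtain ⟨u, hu, v, hv, e⟩ := Submodule.mem_sup.1 (hy m)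
    obtain ⟨c₃, h₃⟩ := Ideal.mem_span_range_iff_exists_fun.1 hu
    have hv' : v ∈ Ideal.span (Set.range fun ab : Fin N × Fin N => y ab.1 * y ab.2) := by
      rw [pow_two, Ideal.span_mul_span'] at hv
      refine Ideal.span_mono ?_ hv
      rintro _ ⟨_, ⟨a, rfl⟩, _, ⟨b, rfl⟩, rfl⟩
      exact ⟨(a, b), rfl⟩
    obtain ⟨c₄, h₄⟩ := Ideal.mem_span_range_iff_exists_fun.1 hv'
    exact ⟨c₃, c₄, by rw [h₃, h₄, e]⟩
  choose c₃ c₄ hc₃ using hy2
  let s : Set Q := Set.range y ∪ Set.range g ∪ Set.range h ∪ Set.range (fun p : Fin r × Fin N => c₁ p.1 p.2) ∪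
    Set.range (fun p : Fin N × Fin r × Fin r => c₂ p.1 p.2.1 p.2.2) ∪
    Set.range (fun p : Fin N × Fin c => c₃ p.1 p.2) ∪
    Set.range (fun p : Fin N × Fin N × Fin N => c₄ p.1 p.2) ∪
    Set.range (fun p : Fin N × Fin N => D p.1 (algebraMap (MvPolynomial (Fin N) A) Q (MvPolynomial.X p.2)))
  obtain ⟨T, hT⟩ := exists_frac_of_finite M s (by
    simp only [s, Set.finite_union]
    refine ⟨⟨⟨⟨⟨⟨⟨?_, ?_⟩, ?_⟩, ?_⟩, ?_⟩, ?_⟩, ?_⟩, ?_⟩ <;> exact Set.finite_range _)
  let C := frac (Q := Q) (N := N) T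
  haveI := isNoetherianRing_frac (Q := Q) (N := N) T
  let D' : Fin N → Derivation ℤ C C := fun l => Derivation.mk'
    (AddMonoidHom.mk' (fun z : C => (⟨D l z.1, derivation_mem T (D l) (fun m => hT _ (Or.inr ⟨(l, m), rfl⟩)) z.2⟩ : C))
      (fun a b => Subtype.ext (map_add (D l) _ _))).toIntLinearMap
    (fun a b => Subtype.ext ((D l).leibniz a.1 b.1))
  let y' : Fin N → C := fun m => ⟨y m, hT _ (by simp [s])⟩
  let g' : Fin c → C := fun j => ⟨g j, hT _ (by simp [s])⟩
  let h' : Fin r → C := fun k => ⟨h k, hT _ (by simp [s])⟩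
  have hsum : ∀ {n : ℕ} (a b : Fin n → C) (z : C), (z : Q) = ∑ i, (a i : Q) * (b i : Q) → z = ∑ i, a i * b i :=
    fun a b z e => Subtype.ext (by push_cast; exact e)
  have hspan : ∀ l, ∀ z ∈ Ideal.span (Set.range g'), D' l z ∈ Ideal.span (Set.range g') := by
    intro l z hz
    obtain ⟨a, rfl⟩ := Ideal.mem_span_range_iff_exists_fun.1 hz
    rw [map_sum]
    refine sum_mem fun j _ => ?_
    have : D' l (g' j) = 0 := Subtype.ext (hDg l j)
    rw [Derivation.leibniz, this, smul_zero, zero_add, smul_eq_mul]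
    exact Ideal.mul_mem_right _ _ (Ideal.subset_span ⟨j, rfl⟩)
  have hle := le_of_stable y' (Ideal.span (Set.range g')) (Ideal.span (Set.range h')) D' hspan ?_ ?_ ?_ ?_ ?_
  · rw [Ideal.span_le]
    rintro _ ⟨k, rfl⟩
    obtain ⟨a, ha⟩ := Ideal.mem_span_range_iff_exists_fun.1 (hle (Ideal.subset_span (Set.mem_range_self k)))
    exact Ideal.mem_span_range_iff_exists_fun.2 ⟨fun j => a j, by simpa [h', g'] using congrArg Subtype.val ha⟩
  · intro l z hz
    obtain ⟨a, rfl⟩ := Ideal.mem_span_range_iff_exists_fun.1 hz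
    rw [map_sum]
    refine sum_mem fun k _ => ?_
    rw [Derivation.leibniz, smul_eq_mul, smul_eq_mul]
    refine add_mem (Ideal.mul_mem_left _ _ ?_) (Ideal.mul_mem_right _ _ (Ideal.subset_span ⟨k, rfl⟩))
    refine Ideal.mem_span_range_iff_exists_fun.2
      ⟨fun i => ⟨c₂ l k i, hT _ (Or.inl (Or.inl (Or.inl (Or.inr ⟨(l, k, i), rfl⟩))))⟩, Subtype.ext ?_⟩
    push_cast; exact hc₂ l k
  · refine le_sup_of_le_right (Ideal.span_le.2 ?_)
    rintro _ ⟨k, rfl⟩
    refine Ideal.mem_span_range_iff_exists_fun.2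
      ⟨fun i => ⟨c₁ k i, hT _ (Or.inl (Or.inl (Or.inl (Or.inl (Or.inr ⟨(k, i), rfl⟩)))))⟩, Subtype.ext ?_⟩
    push_cast; exact hc₁ k
  · intro m
    have e : euler y' D' (y' m) - y' m = (∑ j, ⟨c₃ m j, hT _ (Or.inl (Or.inl (Or.inr ⟨(m, j), rfl⟩)))⟩ * g' j) +
        ∑ ab : Fin N × Fin N, ⟨c₄ m ab, hT _ (Or.inl (Or.inr ⟨(m, ab), rfl⟩))⟩ * (y' ab.1 * y' ab.2) := by
      refine Subtype.ext ?_
      simp only [euler]
      push_cast
      exact hc₃ m
    rw [e]
    refine add_mem (Ideal.mem_sup_left (sum_mem fun j _ => Ideal.mul_mem_left _ _ (Ideal.subset_span ⟨j, rfl⟩)))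
      (Ideal.mem_sup_right (sum_mem fun ab _ => Ideal.mul_mem_left _ _ ?_))
    rw [pow_two]
    exact Ideal.mul_mem_mul (Ideal.subset_span ⟨_, rfl⟩) (Ideal.subset_span ⟨_, rfl⟩)
  · intro m hm
    exact isUnit_frac T _ (by push_cast; exact hchar m hm)
  · intro z hz
    refine isUnit_frac T _ ?_
    obtain ⟨a, rfl⟩ := Ideal.mem_span_range_iff_exists_fun.1 hz
    push_cast
    refine IsLocalRing.isUnit_one_sub_self_of_mem_nonunits _ ?_
    exact (IsLocalRing.mem_maximalIdeal _).1 (sum_mem fun i _ => Ideal.mul_mem_left _ _ (hyM i))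

end Groth.Agent.SmoothUnit27
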